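import Mathlib
import Groth.Prelude
import Groth.Agent.Lib.Lead.SkLoc2
import Groth.Agent.Lib.Helper8.Depth30
import Groth.Agent.Lib.Helper8.FlatReg14

set_option autoImplicit false
set_option backward.isDefEq.respectTransparency.types false
set_option synthInstance.maxHeartbeats 400000
set_option maxHeartbeats 4000000
set_option linter.style.haveILetI false
set_option linter.unusedSectionVars false
set_option linter.unusedVariables false

/-! # Normality of the total space of a flat family: local algebra -/

universe u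

open IsLocalRing

namespace Groth.Agent.Helper2.NormFam

open LocCoh Groth.Agent.Helper8.FlatReg Groth.Agent.Helper8.SkBase Groth.Agent.Lead.Coprof
  Groth.Agent.Lead.CMAt Groth.Agent.Helper3.FibStalk Groth.Agent.Helper3.FibDepth
  Groth.Agent.Helper8.GorFlat Groth.Agent.Lead.SkLoc

section FL

variable {A B F : Type u} [CommRing A] [CommRing B] [CommRing F] [IsLocalRing A] [IsLocalRing B]
  [IsLocalRing F] [IsNoetherianRing A] [IsNoetherianRing B] {φ : A →+* B} {γ : B →+* F}

/-- `(S_2)` for the total ring from `(S_2)` on a base of positive dimension and `(S_1)` on the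
fibre. -/
theorem skLocal_two_of_flData (D : FLData φ γ) (hA : SkLocal 2 A) (hF : SkLocal 1 F)
    (hpos : (1 : WithBot ℕ∞) ≤ ringKrullDim A) : SkLocal 2 B := by
  haveI : IsNoetherianRing F := isNoetherianRing_of_surjective B F γ D.surj
  have hdepth := depth_eq_add_of_flData D
  have hdim := ringKrullDim_eq_add_of_flData D
  obtain ⟨dA, rA, hdA, hrA, hA'⟩ := exists_nat_depth A
  obtain ⟨dF, rF, hdF, hrF, hF'⟩ := exists_nat_depth F
  have hdB : ringKrullDim B = ((dA + dF : ℕ) : WithBot ℕ∞) := by
    rw [hdim, hdA, hdF]; push_cast; rfl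
  have hrB : depth B B = ((rA + rF : ℕ) : ℕ∞) := by
    rw [hdepth, hrA, hrF]; push_cast; rfl
  have h1 : 1 ≤ dA := by
    rw [hdA] at hpos
    have : ((1 : ℕ) : WithBot ℕ∞) ≤ (dA : WithBot ℕ∞) := by exact_mod_cast hpos
    exact_mod_cast this
  rw [skLocal_iff_nat 2 A dA rA hdA hrA] at hA
  rw [skLocal_iff_nat 1 F dF rF hdF hrF] at hF
  rw [skLocal_iff_nat 2 B _ _ hdB hrB]
  omega

/-- the dimensions of base and fibre when the total ring has dimension at most one and the base has
positive dimension -/
theorem dims_of_flData_dim_le_one (D : FLData φ γ) (hB : ringKrullDim B ≤ 1)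
    (hpos : (1 : WithBot ℕ∞) ≤ ringKrullDim A) :
    ringKrullDim A ≤ 1 ∧ ringKrullDim F ≤ 0 := by
  haveI : IsNoetherianRing F := isNoetherianRing_of_surjective B F γ D.surj
  have hdim := ringKrullDim_eq_add_of_flData D
  obtain ⟨dA, rA, hdA, hrA, hA'⟩ := exists_nat_depth A
  obtain ⟨dF, rF, hdF, hrF, hF'⟩ := exists_nat_depth F
  have hdB : ringKrullDim B = ((dA + dF : ℕ) : WithBot ℕ∞) := by
    rw [hdim, hdA, hdF]; push_cast; rfl
  have h1 : 1 ≤ dA := by
    rw [hdA] at hpos
    have : ((1 : ℕ) : WithBot ℕ∞) ≤ (dA : WithBot ℕ∞) := by exact_mod_cast hpos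
    exact_mod_cast this
  have h2 : dA + dF ≤ 1 := by
    rw [hdB] at hB
    have : ((dA + dF : ℕ) : WithBot ℕ∞) ≤ ((1 : ℕ) : WithBot ℕ∞) := by exact_mod_cast hB
    exact_mod_cast this
  constructor
  · rw [hdA]
    have : dA ≤ 1 := by omega
    exact_mod_cast this
  · rw [hdF]
    have : dF ≤ 0 := by omega
    exact_mod_cast this

/-- regularity of the total ring in dimension at most one -/
theorem isRegularLocalRing_of_flData_dim_le_one (D : FLData φ γ) (hB : ringKrullDim B ≤ 1)
    (hpos : (1 : WithBot ℕ∞) ≤ ringKrullDim A) (hA : HasRk 1 A) [IsReduced F] :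
    IsRegularLocalRing B := by
  haveI : IsNoetherianRing F := isNoetherianRing_of_surjective B F γ D.surj
  obtain ⟨hdA, hdF⟩ := dims_of_flData_dim_le_one D hB hpos
  haveI regA : IsRegularLocalRing A := isRegularLocalRing_of_hasRk_of_dim_le 1 hA (by exact_mod_cast hdA)
  have regF : IsRegularLocalRing F :=
    isRegularLocalRing_of_hasRk_of_dim_le 0
      ((Groth.Agent.Helper8.Depth.isReduced_iff_R0_S1 (R := F)).mp inferInstance).1
      (by exact_mod_cast hdF)
  letI : Algebra A B := φ.toAlgebra
  haveI : Module.Flat A B := D.flat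
  haveI : IsLocalHom (algebraMap A B) := D.isLocalHom
  have hker : RingHom.ker γ = (maximalIdeal A).map (algebraMap A B) := D.ker
  let e : (B ⧸ (maximalIdeal A).map (algebraMap A B)) ≃+* F :=
    (Ideal.quotEquivOfEq hker.symm).trans (RingHom.quotientKerEquivOfSurjective D.surj)
  haveI : IsLocalRing (B ⧸ (maximalIdeal A).map (algebraMap A B)) :=
    isLocalRing_quot _ (map_maximalIdeal_le A B)
  haveI : IsRegularLocalRing (B ⧸ (maximalIdeal A).map (algebraMap A B)) :=
    IsRegularLocalRing.of_ringEquiv e.symm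
  exact isRegularLocalRing_of_flat_of_fibre A B

/-- a reduced Noetherian local ring satisfies `(S_1)` -/
theorem skLocal_one_of_isReduced (F : Type u) [CommRing F] [IsLocalRing F] [IsNoetherianRing F]
    [IsReduced F] : SkLocal 1 F :=
  skLocal_of_hasSk 1 ((Groth.Agent.Helper8.Depth.isReduced_iff_R0_S1 (R := F)).mp inferInstance).2

end FL

end Groth.Agent.Helper2.NormFam
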