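import Mathlib
import Groth.Prelude
import Groth.Agent.Lib.Helper2.NormFam.Alg
import Groth.Agent.Lib.Helper2.Norm.SmoothBC
import Groth.Agent.Lib.Helper6.Normal.Scheme
import Groth.Agent.Lib.Lead.RkLoc6
import Groth.Agent.Lib.Lead.CMQF10
import Groth.Agent.Lib.Helper4.NormDimOne1

set_option autoImplicit false
set_option backward.isDefEq.respectTransparency.types false
set_option synthInstance.maxHeartbeats 400000
set_option maxHeartbeats 4000000
set_option linter.style.haveILetI false
set_option linter.unusedSectionVars false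
set_option linter.unusedVariables false

/-! # Normality of the total space of a flat family with reduced fibres and smooth generic fibre -/

universe u

open CategoryTheory CategoryTheory.Limits AlgebraicGeometry IsLocalRing TopologicalSpace

namespace Groth.Agent.Helper2.NormFam

open LocCoh Groth.Agent.Helper8.FlatReg Groth.Agent.Helper8.GorFlat Groth.Agent.Lead.SkLoc
  Groth.Agent.Helper3.FibStalk

/-- the local ring of an integral scheme at a non-generic point has positive dimension -/
theorem one_le_ringKrullDim_stalk (S : Scheme.{u}) [IsIntegral S] (s : S)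
    (hs : s ≠ genericPoint S) : (1 : WithBot ℕ∞) ≤ ringKrullDim (S.presheaf.stalk s) := by
  obtain ⟨_, ⟨U, hU : IsAffineOpen U, rfl⟩, hsU, -⟩ :=
    S.isBasis_affineOpens.exists_subset_of_mem_open (Set.mem_univ s) isOpen_univ
  haveI : Nonempty U := ⟨⟨s, hsU⟩⟩
  haveI : IsDomain Γ(S, U) := inferInstance
  have hne := Groth.Agent.Lib.Helper4.NormDimOne1.primeIdealOf_ne_bot hU ⟨s, hsU⟩ hs
  letI : Algebra Γ(S, U) (S.presheaf.stalk s) := S.presheaf.algebra_section_stalk ⟨s, hsU⟩
  haveI : IsLocalization.AtPrime (S.presheaf.stalk s) (hU.primeIdealOf ⟨s, hsU⟩).asIdeal :=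
    hU.isLocalization_stalk ⟨s, hsU⟩
  rw [IsLocalization.AtPrime.ringKrullDim_eq_height (hU.primeIdealOf ⟨s, hsU⟩).asIdeal
    (S.presheaf.stalk s)]
  have h0 : (hU.primeIdealOf ⟨s, hsU⟩).asIdeal.height ≠ 0 := by
    intro h
    have hmin := Ideal.height_eq_zero_iff.mp h
    rw [IsDomain.minimalPrimes_eq_singleton_bot, Set.mem_singleton_iff] at hmin
    exact hne hmin
  have h1 : (1 : ℕ∞) ≤ (hU.primeIdealOf ⟨s, hsU⟩).asIdeal.height :=
    Order.one_le_iff_ne_zero.mpr h0
  exact_mod_cast h1

/-- normal Noetherian local rings satisfy the two pointwise conditions -/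
theorem pt_of_normal (B : Type u) [CommRing B] [IsLocalRing B] [IsNoetherianRing B]
    (h : IsDomain B ∧ IsIntegrallyClosed B) :
    SkLocal 2 B ∧ (ringKrullDim B ≤ 1 → IsRegularLocalRing B) := by
  obtain ⟨hR, hS⟩ := (Groth.Agent.Lead.RkLoc.normal_iff_R1_S2 B).mp h
  exact ⟨skLocal_of_hasSk 2 hS,
    fun hd => isRegularLocalRing_of_hasRk_of_dim_le 1 hR (by exact_mod_cast hd)⟩

theorem pt_of_ringEquiv {B B' : Type u} [CommRing B] [IsLocalRing B] [CommRing B']
    [IsLocalRing B'] (e : B ≃+* B')
    (h : SkLocal 2 B ∧ (ringKrullDim B ≤ 1 → IsRegularLocalRing B)) :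
    SkLocal 2 B' ∧ (ringKrullDim B' ≤ 1 → IsRegularLocalRing B') := by
  refine ⟨skLocal_of_ringEquiv 2 e h.1, fun hd => ?_⟩
  haveI := h.2 (by rw [ringKrullDim_eq_of_ringEquiv e]; exact hd)
  exact IsRegularLocalRing.of_ringEquiv e

/-- stalks of the generic fibre are normal -/
theorem normal_fiberStalk_of_eq_genericPoint {S C : Scheme.{u}} [IsIntegral S] (f : C ⟶ S)
    (hsm : Smooth (f.fiberToSpecResidueField (genericPoint ↥S)))
    (s : S) (hs : s = genericPoint S) (x : f.fiber s) :
    IsDomain ((f.fiber s).presheaf.stalk x) ∧ IsIntegrallyClosed ((f.fiber s).presheaf.stalk x) := by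
  subst hs
  haveI := hsm
  have hN : Pi1.IsNormalScheme (f.fiber (genericPoint S)) :=
    Groth.Agent.Lib.Helper6.Normal.isNormalScheme_of_smooth
      (f.fiberToSpecResidueField (genericPoint S))
      (Groth.Agent.Helper2.NormSmooth.isNormalScheme_Spec_of_isField _
        (Field.toIsField (S.residueField (genericPoint S))))
  exact hN x

theorem maximalIdeal_stalk_eq_bot_of_eq_genericPoint (S : Scheme.{u}) [IsIntegral S] (s : S)
    (hs : s = genericPoint S) : maximalIdeal (S.presheaf.stalk s) = ⊥ := by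
  subst hs
  letI : Field (S.presheaf.stalk (genericPoint S)) := inferInstanceAs (Field S.functionField)
  exact IsLocalRing.maximalIdeal_eq_bot

/-- the two pointwise conditions at every point of the total space -/
theorem pt {S C : Scheme.{u}} [IsIntegral S] [IsLocallyNoetherian S]
    (hS : Pi1.IsNormalScheme S) (f : C ⟶ S) [Flat f] [LocallyOfFiniteType f]
    [GeometricallyReduced f]
    (hsm : Smooth (f.fiberToSpecResidueField (genericPoint ↥S))) (c : C) :
    SkLocal 2 (C.presheaf.stalk c) ∧
      (ringKrullDim (C.presheaf.stalk c) ≤ 1 → IsRegularLocalRing (C.presheaf.stalk c)) := by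
  haveI : IsLocallyNoetherian C := LocallyOfFiniteType.isLocallyNoetherian f
  haveI : IsLocallyNoetherian (f.fiber (f c)) :=
    Groth.Agent.Lead.CMQF.isLocallyNoetherian_fiber f (f c)
  haveI : IsNoetherianRing (C.presheaf.stalk c) := inferInstance
  haveI : IsNoetherianRing (S.presheaf.stalk (f c)) := inferInstance
  haveI : IsNoetherianRing ((f.fiber (f c)).presheaf.stalk (f.asFiber c)) := inferInstance
  by_cases hgen : f c = genericPoint S
  · -- generic fibre
    have hbot := maximalIdeal_stalk_eq_bot_of_eq_genericPoint S (f c) hgen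
    obtain ⟨e⟩ := Groth.Agent.Lead.RkLoc.fiberStalk_equiv_of_maximalIdeal_eq_bot f c hbot
    have hn := normal_fiberStalk_of_eq_genericPoint f hsm (f c) hgen (f.asFiber c)
    exact pt_of_ringEquiv e.symm (pt_of_normal _ hn)
  · obtain ⟨γ, hγ, hk⟩ := exists_fibre_presentation f c
    have D : FLData (f.stalkMap c).hom γ := ⟨Flat.stalkMap f c, inferInstance, hγ, hk⟩
    obtain ⟨hdom, hic⟩ := hS (f c)
    have hpos := one_le_ringKrullDim_stalk S (f c) hgen
    haveI : _root_.IsReduced ((f.fiber (f c)).presheaf.stalk (f.asFiber c)) := inferInstance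
    refine ⟨skLocal_two_of_flData D
      (skLocal_of_hasSk 2 (hasSk_two_of_normal_domain (S.presheaf.stalk (f c))))
      (skLocal_one_of_isReduced _) hpos, fun hd => ?_⟩
    exact isRegularLocalRing_of_flData_dim_le_one D hd hpos
      (hasRk_one_of_normal_domain (S.presheaf.stalk (f c)))

theorem main (S C : Scheme.{u}) [IsIntegral S] [IsLocallyNoetherian S]
    (hS : Pi1.IsNormalScheme S) (f : C ⟶ S) [Flat f] [LocallyOfFiniteType f]
    [GeometricallyReduced f]
    (hsm : Smooth (f.fiberToSpecResidueField (genericPoint ↥S))) :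
    Pi1.IsNormalScheme C := by
  haveI : IsLocallyNoetherian C := LocallyOfFiniteType.isLocallyNoetherian f
  intro c
  haveI : IsNoetherianRing (C.presheaf.stalk c) := inferInstance
  refine (Groth.Agent.Lead.RkLoc.normal_iff_R1_S2 (C.presheaf.stalk c)).mpr ⟨?_, ?_⟩
  · intro p hp hht
    obtain ⟨c', -, ⟨e⟩⟩ := exists_equiv_of_prime C c p
    have hd : ringKrullDim (C.presheaf.stalk c') ≤ 1 := by
      rw [← ringKrullDim_eq_of_ringEquiv e,
        IsLocalization.AtPrime.ringKrullDim_eq_height p (Localization.AtPrime p)]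
      exact_mod_cast hht
    haveI := (pt hS f hsm c').2 hd
    exact IsRegularLocalRing.of_ringEquiv e.symm
  · exact (hasSk_stalk_iff C c 2).mpr fun c' _ => (pt hS f hsm c').1

end Groth.Agent.Helper2.NormFam
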